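import Cfsg.Agent.PushUpB.OddAut

/-!
Pushing up with a group acting on the Sylow subgroup (for S1823): the components of the graph of
non-commuting images of `Ω₁Z(O₂(G))`.
-/

set_option autoImplicit false
set_option linter.style.haveILetI false
set_option linter.unusedSectionVars false

namespace CfsgLib.CommonNormal

open Subgroup CfsgLib.PMinFF CfsgLib.OffGen CfsgLib.PushUpB

universe u v

/-- Conjugation by an element of order prime to `2` which multiplies by a centralized `2`-element. -/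
theorem commute_of_chain {G : Type*} [Group G] {g k : G} (hg : Odd (orderOf g))
    (hc : Commute g (g * k * g⁻¹ * k⁻¹)) {m : ℕ} (hm : (g * k * g⁻¹ * k⁻¹) ^ 2 ^ m = 1) :
    Commute g k := by
  set c := g * k * g⁻¹ * k⁻¹ with hcd
  have h1 : ∀ n : ℕ, g ^ n * k * (g ^ n)⁻¹ = c ^ n * k := by
    intro n
    induction n with
    | zero => simp
    | succ n ih =>
      have h2 : g * c ^ n * g⁻¹ = c ^ n := by rw [(hc.pow_right n).eq, mul_inv_cancel_right]
      calc g ^ (n + 1) * k * (g ^ (n + 1))⁻¹ = g * (g ^ n * k * (g ^ n)⁻¹) * g⁻¹ := by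
            rw [pow_succ']; group
        _ = g * c ^ n * g⁻¹ * (g * k * g⁻¹ * k⁻¹) * k := by rw [ih]; group
        _ = c ^ (n + 1) * k := by rw [h2, ← hcd, pow_succ]
  have h3 := h1 (orderOf g)
  rw [pow_orderOf_eq_one, one_mul, inv_one, mul_one] at h3
  have h4 : c ^ orderOf g = 1 := mul_right_cancel (h3.symm.trans (one_mul k).symm)
  have h5 : c = 1 := by
    have hco : Nat.Coprime (orderOf g) (2 ^ m) :=
      (Nat.coprime_two_right.2 hg).pow_right m
    have := orderOf_dvd_of_pow_eq_one h4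
    have h6 : orderOf c ∣ Nat.gcd (orderOf g) (2 ^ m) := Nat.dvd_gcd this (orderOf_dvd_of_pow_eq_one hm)
    rw [hco, Nat.dvd_one, orderOf_eq_one_iff] at h6
    exact h6
  have h7 : g * k * g⁻¹ = k := mul_inv_eq_one.1 h5
  exact mul_inv_eq_iff_eq_mul.1 h7

variable {G : Type u} [Group G] [Finite G] {T : Sylow 2 G} {M : Subgroup G}
  {P : Type u} [Group P] [Finite P] {π : G →* P} {W : Type u} [AddCommGroup W] [Finite W]
  [DistribMulAction P W] {e : W ≃ Vo 2 G} {T' : Sylow 2 P} {𝓔 : Set (Subgroup P)}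
  {A : Type v} [Group A] [Finite A]

/-- Non-commuting images under elements of the acting group. -/
abbrev AdjA (ρ : A →* MulAut ↥(T : Subgroup G)) (a b : A) : Prop := AdjV T (ρ a) (ρ b)

variable (D : PU T M π e T' 𝓔) (ρ : A →* MulAut ↥(T : Subgroup G))
include D

theorem adj_mul (c : A) {a b : A} (h : AdjA ρ a b) : AdjA ρ (c * a) (c * b) := by
  have := h.mul_left (ρ c)
  rwa [← map_mul, ← map_mul] at this

theorem adj_one_iff {a b : A} : AdjA ρ a b ↔ AdjA ρ 1 (a⁻¹ * b) := by
  constructor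
  · intro h
    have := adj_mul D ρ a⁻¹ h
    rwa [inv_mul_cancel] at this
  · intro h
    have := adj_mul D ρ a h
    rwa [mul_one, mul_inv_cancel_left] at this

theorem adj_trans {x u v : A} (hx : AdjA ρ 1 x) (hu : AdjA ρ 1 u) (huv : AdjA ρ u v) :
    AdjA ρ x v := by
  unfold AdjA at *
  rw [map_one] at hx hu
  exact D.adjV_trans hx hu huv

/-- Two vertices with a common neighbour have the same neighbours. -/
theorem same_nbrs {a b u : A} (ha : AdjA ρ a u) (hb : AdjA ρ b u) (y : A) :
    AdjA ρ a y ↔ AdjA ρ b y := by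
  suffices h : ∀ a b : A, AdjA ρ a u → AdjA ρ b u → AdjA ρ a y → AdjA ρ b y from
    ⟨h a b ha hb, h b a hb ha⟩
  intro a b ha hb hay
  have h1 : AdjA ρ 1 (a⁻¹ * u) := (adj_one_iff D ρ).1 ha
  have h2 : AdjA ρ 1 (a⁻¹ * y) := (adj_one_iff D ρ).1 hay
  have h3 : AdjA ρ (a⁻¹ * u) (a⁻¹ * b) := adj_mul D ρ a⁻¹ hb.symm
  have h4 := adj_mul D ρ a (adj_trans D ρ h2 h1 h3)
  rw [mul_inv_cancel_left, mul_inv_cancel_left] at h4
  exact h4.symm

/-- The elements preserving the side of `V`. -/
def side : Subgroup A where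
  carrier := {a | ∀ y, AdjA ρ a y ↔ AdjA ρ 1 y}
  one_mem' := fun _ => Iff.rfl
  mul_mem' := fun {a b} ha hb y => by
    have h1 : AdjA ρ (a * b) y ↔ AdjA ρ b (a⁻¹ * y) := by
      rw [adj_one_iff D ρ, mul_inv_rev, mul_assoc, ← adj_one_iff D ρ]
    rw [h1, hb, ← adj_one_iff D ρ]
    exact ha y
  inv_mem' := fun {a} ha y => by
    have h := ha (a * y)
    rw [adj_one_iff D ρ, inv_mul_cancel_left] at h
    rw [h, adj_one_iff D ρ, inv_inv]

theorem mem_side {a : A} : a ∈ side D ρ ↔ ∀ y, AdjA ρ a y ↔ AdjA ρ 1 y := Iff.rfl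

/-- The elements preserving the component of `V`. -/
def compo : Subgroup A where
  carrier := {a | a ∈ side D ρ ∨ AdjA ρ 1 a}
  one_mem' := Or.inl (one_mem _)
  mul_mem' := fun {a b} ha hb => by
    rcases ha with ha | ha <;> rcases hb with hb | hb
    · exact Or.inl (mul_mem ha hb)
    · refine Or.inr ((ha _).1 ?_)
      rw [adj_one_iff D ρ, inv_mul_cancel_left]
      exact hb
    · have h1 : AdjA ρ 1 a⁻¹ := by
        have := adj_mul D ρ a⁻¹ ha
        rw [mul_one, inv_mul_cancel] at this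
        exact this.symm
      have h2 := adj_mul D ρ a ((hb _).2 h1)
      rw [mul_inv_cancel] at h2
      exact Or.inr h2.symm
    · refine Or.inl fun y => ?_
      have h1 : AdjA ρ (a * b) a := by
        have := adj_mul D ρ a hb
        rw [mul_one] at this
        exact this.symm
      exact same_nbrs D ρ h1 ha y
  inv_mem' := fun {a} ha => by
    rcases ha with ha | ha
    · exact Or.inl (inv_mem ha)
    · have := adj_mul D ρ a⁻¹ ha
      rw [mul_one, inv_mul_cancel] at this
      exact Or.inr this.symm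

theorem mem_compo_of_adj {a : A} (h : AdjA ρ 1 a) : a ∈ compo D ρ := Or.inr h

theorem side_le_compo : side D ρ ≤ compo D ρ := fun _ h => Or.inl h

theorem not_side_of_adj {a : A} (h : AdjA ρ 1 a) : a ∉ side D ρ := fun hs =>
  not_adjV_self (ρ a) ((hs a).2 h)

theorem mul_mem_side {a b : A} (ha : AdjA ρ 1 a) (hb : AdjA ρ 1 b) : a * b ∈ side D ρ := by
  intro y
  have h1 : AdjA ρ (a * b) a := by
    have := adj_mul D ρ a hb
    rw [mul_one] at this
    exact this.symm
  exact same_nbrs D ρ h1 ha y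

/-- A subgroup acting transitively on the cosets of a subgroup of index a power of two. -/
theorem exists_mul_of_two_power {K : Subgroup A} {n : ℕ} (hK : K.index = 2 ^ n) (S : Sylow 2 A)
    (a : A) : ∃ s ∈ (S : Subgroup A), ∃ k ∈ K, a = s * k := by
  haveI : Fact (Nat.Prime 2) := ⟨Nat.prime_two⟩
  set J := (S : Subgroup A) ⊓ K
  have hdvd1 : K.index ∣ J.index := Subgroup.index_dvd_of_le inf_le_right
  have hdvd2 : (S : Subgroup A).index ∣ J.index := Subgroup.index_dvd_of_le inf_le_left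
  have hco : Nat.Coprime K.index (S : Subgroup A).index := by
    rw [hK]
    exact Nat.Coprime.pow_left n ((Nat.prime_two.coprime_iff_not_dvd).2 S.not_dvd_index)
  have h := hco.mul_dvd_of_dvd_of_dvd hdvd1 hdvd2
  have hidx : J.index = K.relIndex S * (S : Subgroup A).index := by
    rw [← Subgroup.relIndex_mul_index (inf_le_left : J ≤ S), Subgroup.inf_relIndex_left]
  rw [hidx] at h
  have h2 : K.index ∣ K.relIndex S :=
    (Nat.mul_dvd_mul_iff_right (Nat.pos_of_ne_zero (Subgroup.index_ne_zero_of_finite))).1 h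
  let f : ↥(S : Subgroup A) ⧸ K.subgroupOf S → A ⧸ K :=
    Quotient.lift (fun s => ((s : A) : A ⧸ K)) fun s t hst => by
      rw [QuotientGroup.eq]
      exact (QuotientGroup.leftRel_apply (α := ↥(S : Subgroup A))).1 hst
  have hf : Function.Injective f := by
    intro x y
    induction x using QuotientGroup.induction_on with
    | H s =>
      induction y using QuotientGroup.induction_on with
      | H t =>
        intro hxy
        exact QuotientGroup.eq.2 (QuotientGroup.eq.1 hxy : (s : A)⁻¹ * t ∈ K)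
  haveI : Finite (A ⧸ K) := inferInstance
  have hbij : Function.Bijective f :=
    hf.bijective_of_nat_card_le (Nat.le_of_dvd (by
      rw [← Subgroup.index]; exact Nat.pos_of_ne_zero Subgroup.index_ne_zero_of_finite) h2)
  obtain ⟨x, hx⟩ := hbij.2 (a : A ⧸ K)
  induction x using QuotientGroup.induction_on with
  | H s => exact ⟨s, s.2, (s : A)⁻¹ * a, QuotientGroup.eq.1 hx, (mul_inv_cancel_left _ _).symm⟩

/-- If some image does not commute with `V`, then some element of a Sylow subgroup `S` moves `V`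
to its other side, and some image lies outside the components of the images under `S`. -/
theorem exists_flip (S₀ : Sylow 2 A) (hS₀ : ∀ s ∈ (S₀ : Subgroup A), ¬ AdjA ρ 1 s) {a : A}
    (ha : AdjA ρ 1 a) : ∃ S : Sylow 2 A, ∃ f ∈ (S : Subgroup A), ∃ h : A, AdjA ρ 1 f ∧
      ∀ s ∈ (S : Subgroup A), ¬ AdjA ρ s h ∧ ¬ AdjA ρ s (h * f) := by
  classical
  haveI : Fact (Nat.Prime 2) := ⟨Nat.prime_two⟩
  have hodd : ∀ n : ℕ, AdjA ρ 1 (a ^ (2 * n + 1)) := by
    intro n
    have h1 : a ^ (2 * n) ∈ side D ρ := by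
      rw [pow_mul, pow_two]
      exact pow_mem (mul_mem_side D ρ ha ha) n
    have h2 : AdjA ρ (a ^ (2 * n)) (a ^ (2 * n + 1)) := by
      rw [pow_succ]
      have := adj_mul D ρ (a ^ (2 * n)) ha
      rwa [mul_one] at this
    exact (h1 _).1 h2
  obtain ⟨k, m, hm, he⟩ := Nat.exists_eq_two_pow_mul_odd (orderOf_pos a).ne'
  obtain ⟨n, rfl⟩ := hm
  set f := a ^ (2 * n + 1) with hfd
  have hf : AdjA ρ 1 f := hodd n
  have hfz : IsPGroup 2 (zpowers f) := by
    rintro ⟨x, hx⟩
    obtain ⟨i, rfl⟩ := mem_zpowers_iff.1 hx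
    refine ⟨k, Subtype.ext ?_⟩
    show (f ^ i) ^ 2 ^ k = 1
    rw [← zpow_natCast, ← zpow_mul, mul_comm, zpow_mul, zpow_natCast]
    have : f ^ 2 ^ k = 1 := by
      rw [hfd, ← pow_mul, mul_comm (2 * n + 1), ← he, pow_orderOf_eq_one]
    rw [this, one_zpow]
  obtain ⟨S, hS⟩ := hfz.exists_le_sylow
  have hfS : f ∈ (S : Subgroup A) := hS (mem_zpowers f)
  refine ⟨S, f, hfS, ?_⟩
  by_contra hcon
  push Not at hcon
  have hcov : ∀ h : A, ∃ s ∈ (S : Subgroup A), s⁻¹ * h ∈ compo D ρ := by
    intro h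
    obtain ⟨s, hs, hsf⟩ := hcon h hf
    by_cases hsh : AdjA ρ s h
    · exact ⟨s, hs, Or.inr ((adj_one_iff D ρ).1 hsh)⟩
    · have h1 : s⁻¹ * (h * f) ∈ compo D ρ := Or.inr ((adj_one_iff D ρ).1 (hsf hsh))
      refine ⟨s, hs, ?_⟩
      have := mul_mem h1 (inv_mem (mem_compo_of_adj D ρ hf))
      rwa [← mul_assoc, mul_inv_cancel_right] at this
  -- the index of the component stabilizer is then a power of two
  obtain ⟨i, hi⟩ : ∃ i, (compo D ρ).relIndex (S : Subgroup A) = 2 ^ i := by
    obtain ⟨j, hj⟩ := IsPGroup.iff_card.1 S.isPGroup'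
    obtain ⟨i, -, hi⟩ := (Nat.dvd_prime_pow Nat.prime_two).1
      (hj ▸ Subgroup.relIndex_dvd_card (compo D ρ) (S : Subgroup A))
    exact ⟨i, hi⟩
  have hidx : (compo D ρ).index = 2 ^ i := by
    rw [← hi, Subgroup.relIndex, Subgroup.index, Subgroup.index]
    refine (Nat.card_eq_of_bijective (Quotient.lift (fun s : ↥(S : Subgroup A) =>
      ((s : A) : A ⧸ compo D ρ)) fun s t hst => by
        rw [QuotientGroup.eq]
        exact (QuotientGroup.leftRel_apply (α := ↥(S : Subgroup A))).1 hst) ⟨?_, ?_⟩).symm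
    · intro x y
      induction x using QuotientGroup.induction_on with
      | H s =>
        induction y using QuotientGroup.induction_on with
        | H t =>
          intro hxy
          exact QuotientGroup.eq.2 (QuotientGroup.eq.1 hxy : (s : A)⁻¹ * t ∈ compo D ρ)
    · intro x
      induction x using QuotientGroup.induction_on with
      | H h =>
        obtain ⟨s, hs, hsh⟩ := hcov h
        exact ⟨QuotientGroup.mk ⟨s, hs⟩, QuotientGroup.eq.2 hsh⟩
  have h2 : (side D ρ).relIndex (compo D ρ) = 2 := by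
    rw [Subgroup.relIndex, Subgroup.index_eq_two_iff]
    refine ⟨⟨f, mem_compo_of_adj D ρ hf⟩, fun b => ?_⟩
    simp only [Subgroup.mem_subgroupOf, Subgroup.coe_mul]
    rcases b.2 with hb | hb
    · refine Or.inr ⟨hb, fun hbf => not_side_of_adj D ρ hf ?_⟩
      have := mul_mem (inv_mem hb) hbf
      rwa [inv_mul_cancel_left] at this
    · exact Or.inl ⟨mul_mem_side D ρ hb hf, not_side_of_adj D ρ hb⟩
  have hside : (side D ρ).index = 2 ^ (i + 1) := by
    rw [← Subgroup.relIndex_mul_index (side_le_compo D ρ), h2, hidx, pow_succ, mul_comm]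
  obtain ⟨t, ht, n', hn', hft⟩ := exists_mul_of_two_power D hside S₀ f
  refine hS₀ t ht ?_
  rw [show t = f * n'⁻¹ by rw [hft, mul_inv_cancel_right]]
  have h1 : AdjA ρ 1 f⁻¹ := by
    have := adj_mul D ρ f⁻¹ hf
    rw [mul_one, inv_mul_cancel] at this
    exact this.symm
  have h3 := adj_mul D ρ f ((inv_mem hn' _).2 h1)
  rw [mul_inv_cancel] at h3
  exact h3.symm

end CfsgLib.CommonNormal
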