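import Cfsg.Agent.CommonNormal.Graph

/-!
Pushing up with a group acting on the Sylow subgroup (for S1823): what the minimal parabolic does
to the images of `Ω₁Z(O₂(G))`.
-/

set_option autoImplicit false
set_option linter.style.haveILetI false
set_option linter.unusedSectionVars false

namespace CfsgLib.CommonNormal

open Subgroup CfsgLib.PMinFF CfsgLib.OffGen CfsgLib.PushUpB

universe u v

variable {G : Type u} [Group G] [Finite G] {T : Sylow 2 G} {M : Subgroup G}
  {P : Type u} [Group P] [Finite P] {π : G →* P} {W : Type u} [AddCommGroup W] [Finite W]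
  [DistribMulAction P W] {e : W ≃ Vo 2 G} {T' : Sylow 2 P} {𝓔 : Set (Subgroup P)}

variable (D : PU T M π e T' 𝓔)
include D

/-- An image commuting with `V` lies in `O₂(G) ∩ B(T)`. -/
theorem mem_Rs_of_not_adj {a : MulAut ↥(T : Subgroup G)} (ha : ¬ AdjV T 1 a)
    {v : ↥(T : Subgroup G)} (hv : v ∈ Vs T) : a v ∈ Rs T := by
  refine D.mem_Rs_of_commute (map_mem_Bs a (D.Vs_le_Bs hv)) fun w hw => ?_
  by_contra hc
  exact ha ⟨w, hw, v, hv, fun h => hc h.symm⟩

/-- Commutators of images commuting with `V` are centralized by the elements of odd order. -/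
theorem commute_commutator {a b : MulAut ↥(T : Subgroup G)} (ha : ¬ AdjV T 1 a)
    (hb : ¬ AdjV T 1 b) {v w : ↥(T : Subgroup G)} (hv : v ∈ Vs T) (hw : w ∈ Vs T) {g : G}
    (hg : Odd (orderOf g)) :
    Commute g (((a v * b w * (a v)⁻¹ * (b w)⁻¹ : ↥(T : Subgroup G))) : G) := by
  have hg' : (orderOf g).Coprime 2 := Nat.coprime_two_right.2 hg
  have h1 := mem_Rs_of_not_adj D ha hv
  have h2 := mem_Rs_of_not_adj D hb hw
  simp only [Subgroup.coe_mul, Subgroup.coe_inv]
  exact PushL2.fix_commutator h1.1 h2.1 (D.omega_mem (D.move hg' h1))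
    (D.omega_mem (D.move hg' h2))

/-- A normal `2`-subgroup invariant under an automorphism moving `V` to a non-commuting image is
centralized by the elements of odd order. -/
theorem commute_normal {Y : Subgroup G} [hY : Y.Normal] (hY2 : IsPGroup 2 ↥Y)
    {a : MulAut ↥(T : Subgroup G)} (ha : AdjV T 1 a)
    (hinv : ∀ y : ↥(T : Subgroup G), (y : G) ∈ Y → ((a.symm y : ↥(T : Subgroup G)) : G) ∈ Y)
    {g k : G} (hg : Odd (orderOf g)) (hk : k ∈ Y) : Commute g k := by
  haveI : Fact (Nat.Prime 2) := ⟨Nat.prime_two⟩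
  have hg' : (orderOf g).Coprime 2 := Nat.coprime_two_right.2 hg
  have hYQ : Y ≤ Cfsg.pCore 2 G := CfsgLib.Solvable.le_pCore 2 hY hY2
  have hcY : ∀ {k : G}, k ∈ Y → g * k * g⁻¹ * k⁻¹ ∈ Y := fun hk =>
    mul_mem (hY.conj_mem _ hk g) (inv_mem hk)
  -- elements of `Y ∩ V`
  have hV : ∀ {k : G}, k ∈ Y → k ∈ Vo 2 G → Commute g k := by
    intro k hk hkV
    let S : Set W := {x | (e x : G) ∈ Y}
    let K : Subgroup P :=
      { carrier := {q | ∀ x ∈ S, q • x = x}
        one_mem' := fun x _ => one_smul P x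
        mul_mem' := fun {q r} hq hr x hx => by rw [mul_smul, hr x hx, hq x hx]
        inv_mem' := fun {q} hq x hx => inv_smul_eq_iff.2 (hq x hx).symm }
    haveI hKn : K.Normal := ⟨fun q hq r x hx => by
      obtain ⟨r₀, rfl⟩ := D.quot.surj r
      rw [mul_smul, mul_smul, hq, smul_inv_smul]
      show (e ((π r₀)⁻¹ • x) : G) ∈ Y
      rw [← map_inv, D.quot.smul]
      exact hY.conj_mem _ hx _⟩
    have hJ : Jb T π ≤ K := by
      intro j hj x hx
      obtain ⟨_, ⟨w, hw, rfl⟩, rfl⟩ := (D.Xim_eq ha).ge hj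
      refine D.quot.smul_eq_iff.2 ?_
      set y : ↥(T : Subgroup G) := ⟨(e x : G), D.V_le_T (e x).2⟩
      have h1 : Commute (a.symm y) w :=
        Subtype.ext (D.ker_commute (D.Q_le_ker (hYQ (hinv y hx))) hw)
      have := h1.map a.toMonoidHom
      simp only [MulEquiv.coe_toMonoidHom, MulEquiv.apply_symm_apply] at this
      exact congrArg Subtype.val this.symm.eq
    obtain ⟨E, hE⟩ := D.blk.nonempty
    obtain ⟨B, hB, -, hBJ⟩ := D.exists_mem_Jb E hE
    have hπg : π g ∈ K := D.hyp.le_normal D.blk hB (hBJ.trans hJ)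
      (D.map_Lt.le (mem_map_of_mem π (D.sSup_bset_le_Lt (D.coprime_mem_bset hg'))))
    obtain ⟨x, hx⟩ := D.quot.exists_of_mem hkV
    have h2 := D.quot.smul_eq_iff.1 (hπg x (by show (e x : G) ∈ Y; rwa [hx]))
    rw [hx] at h2
    exact h2
  -- elements of `Y ∩ (O₂(G) ∩ B(T))`
  have hQz : ∀ {k : G}, k ∈ Y → k ∈ Qz 2 (T : Subgroup G) → Commute g k := by
    intro k hk hkQ
    obtain ⟨m, hm⟩ := hY2 ⟨_, hcY hk⟩
    exact commute_of_chain hg (hV (hcY hk) (D.move hg' hkQ)) (congrArg Subtype.val hm)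
  obtain ⟨m, hm⟩ := hY2 ⟨_, hcY hk⟩
  refine commute_of_chain hg (hQz (hcY hk) ?_) (congrArg Subtype.val hm)
  haveI := D.Lt_normal
  rw [← D.Lt_inf_Q]
  refine ⟨?_, hYQ (hcY hk)⟩
  have hgL : g ∈ Lt 2 (T : Subgroup G) := D.sSup_bset_le_Lt (D.coprime_mem_bset hg')
  rw [show g * k * g⁻¹ * k⁻¹ = g * (k * g⁻¹ * k⁻¹) by group]
  exact mul_mem hgL (D.Lt_normal.conj_mem _ (inv_mem hgL) k)

variable {A : Type v} [Group A] [Finite A]

/-- If all images commute with `V` they generate an invariant normal subgroup. -/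
theorem exists_invariant (ρ : A →* MulAut ↥(T : Subgroup G)) (h : ∀ a : A, ¬ AdjA ρ 1 a) :
    ∃ U : Subgroup G, U ≠ ⊥ ∧ U.Normal ∧ U ≤ (T : Subgroup G) ∧
      ∀ a : A, ∀ x : ↥(T : Subgroup G), (x : G) ∈ U → ((ρ a x : ↥(T : Subgroup G)) : G) ∈ U := by
  classical
  haveI : Fact (Nat.Prime 2) := ⟨Nat.prime_two⟩
  haveI : (Vs T).Normal := (Vo_normal (G := G) (p := 2)).subgroupOf _
  set U₀ : Subgroup ↥(T : Subgroup G) := ⨆ a : A, (Vs T).map (ρ a).toMonoidHom with hU₀
  have hU₀R : U₀ ≤ Rs T := by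
    refine iSup_le fun a => ?_
    rintro _ ⟨t, ht, rfl⟩
    exact mem_Rs_of_not_adj D (fun h' => h a (by rw [AdjA, map_one]; exact h')) ht
  set U := U₀.map (T : Subgroup G).subtype with hU
  have hVU : Vo 2 G ≤ U := fun v hv =>
    ⟨⟨v, D.V_le_T hv⟩, mem_iSup_of_mem 1 ⟨⟨v, D.V_le_T hv⟩, hv, by rw [map_one]; rfl⟩, rfl⟩
  refine ⟨U, fun h0 => ?_, ?_, map_subtype_le _, fun a x hx => ?_⟩
  · obtain ⟨E, hE⟩ := D.blk.nonempty
    refine D.blG_com_Z hE ?_
    rw [le_bot_iff.1 ((Z_le_Vo T D.hG).trans (hVU.trans h0.le)), commutator_bot_right]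
  · refine normalizer_eq_top_iff.1 (top_le_iff.1 ?_)
    rw [← D.bset_sup_T]
    refine sup_le (sSup_le ?_) fun t ht => mem_normalizer_of_le ?_
    · rintro _ ⟨E, hE, rfl⟩
      refine CfsgLib.WeakFactor.pResidualOf_le fun g _ ho => mem_normalizer_of_le ?_
      rintro _ ⟨_, ⟨z, hz, rfl⟩, rfl⟩
      have h1 := U.mul_mem (hVU (D.move ho (hU₀R hz))) (mem_map_of_mem _ hz : (z : G) ∈ U)
      simpa [mul_assoc] using h1
    · rintro _ ⟨_, ⟨z, hz, rfl⟩, rfl⟩
      refine ⟨⟨t, ht⟩ * z * ⟨t, ht⟩⁻¹, ?_, by simp⟩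
      have hn : U₀.Normal := by
        rw [hU₀]
        haveI : ∀ a : A, ((Vs T).map (ρ a).toMonoidHom).Normal := fun a =>
          Subgroup.Normal.map inferInstance _ (ρ a).surjective
        infer_instance
      exact hn.conj_mem z hz _
  · obtain ⟨z, hz, hzx⟩ := hx
    obtain rfl : z = x := Subtype.ext hzx
    refine mem_map_of_mem _ ?_
    have h1 : U₀.map (ρ a).toMonoidHom ≤ U₀ := by
      rw [hU₀, Subgroup.map_iSup]
      refine iSup_le fun b => ?_
      rw [Subgroup.map_map]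
      refine le_iSup_of_le (a * b) (le_of_eq ?_)
      rw [map_mul]
      rfl
    exact h1 (mem_map_of_mem (ρ a).toMonoidHom hz)

end CfsgLib.CommonNormal
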