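import Cfsg.Agent.CommonNormal.Local
import Cfsg.Agent.CharP.FrakM
import Cfsg.Agent.LocalB.IsolatedPMinLift
import Cfsg.Agent.LocalB.CTTools
import Cfsg.Agent.LocalB.CTControl
import Cfsg.Prelude.Def_Quasithin

/-!
A common normal `2`-subgroup of a pair of overgroups of a Sylow `2`-subgroup (for S1823).

Only even characteristic is used: if a minimal parabolic `X₁` of `O²(H)R` moves `Ω₁Z(O₂(X₁))` to a
non-commuting image, then a Sylow subgroup of `M₀` normalizes a nontrivial subgroup centralized by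
the elements of odd order of `X₁`, and its normalizer does not have characteristic two.
-/

set_option autoImplicit false
set_option linter.style.haveILetI false
set_option linter.unusedSectionVars false

namespace CfsgLib.CommonNormal

open Subgroup CfsgLib.PushUpB

universe u

/-- A normal subgroup containing all elements of odd order and a Sylow `2`-subgroup cover. -/
theorem sup_sylow_eq_top {X : Type*} [Group X] [Finite X] (N : Subgroup X) [N.Normal]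
    (hN : ∀ x : X, Odd (orderOf x) → x ∈ N) (S : Sylow 2 X) : N ⊔ (S : Subgroup X) = ⊤ := by
  haveI : Fact (Nat.Prime 2) := ⟨Nat.prime_two⟩
  have hp : IsPGroup 2 (X ⧸ N) := by
    intro q
    induction q using QuotientGroup.induction_on with
    | H x =>
      obtain ⟨k, m, hm, he⟩ := Nat.exists_eq_two_pow_mul_odd (orderOf_pos x).ne'
      refine ⟨k, (QuotientGroup.eq_one_iff _).2 (hN _ ?_)⟩
      rw [orderOf_pow_of_dvd (pow_ne_zero _ two_ne_zero) (he ▸ Dvd.intro _ rfl), he,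
        Nat.mul_div_cancel_left _ (Nat.two_pow_pos k)]
      exact hm
  obtain ⟨n, hn⟩ := IsPGroup.iff_card.1 hp
  have h1 : (N ⊔ (S : Subgroup X)).index ∣ 2 ^ n := by
    rw [← hn, ← Subgroup.index]; exact index_dvd_of_le le_sup_left
  have h2 : (N ⊔ (S : Subgroup X)).index ∣ (S : Subgroup X).index := index_dvd_of_le le_sup_right
  rw [← index_eq_one]
  refine Nat.eq_one_of_dvd_coprimes (Nat.Coprime.pow_left n ?_) h1 h2
  exact (Nat.prime_two.coprime_iff_not_dvd).2 S.not_dvd_index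

/-- An element of a `2`-group of odd order is trivial. -/
theorem eq_one_of_odd {X : Type*} [Group X] {Q : Subgroup X} (hQ : IsPGroup 2 ↥Q) {x : X}
    (hx : x ∈ Q) (ho : Odd (orderOf x)) : x = 1 := by
  obtain ⟨k, hk⟩ := hQ ⟨x, hx⟩
  have h1 : orderOf x ∣ 2 ^ k := orderOf_dvd_of_pow_eq_one (congrArg Subtype.val hk)
  have h2 : Nat.Coprime (orderOf x) (2 ^ k) := (Nat.coprime_two_right.2 ho).pow_right k
  exact orderOf_eq_one_iff.1 (Nat.eq_one_of_dvd_coprimes h2 dvd_rfl h1)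

/-- A subgroup whose elements of odd order are trivial is a `2`-group. -/
theorem isPGroup_two_of_odd {X : Type*} [Group X] [Finite X] {D : Subgroup X}
    (h : ∀ x ∈ D, Odd (orderOf x) → x = 1) : IsPGroup 2 ↥D := by
  rintro ⟨x, hx⟩
  obtain ⟨k, m, hm, he⟩ := Nat.exists_eq_two_pow_mul_odd (orderOf_pos x).ne'
  refine ⟨k, Subtype.ext (h _ (pow_mem hx _) ?_)⟩
  show Odd (orderOf (x ^ 2 ^ k))
  rw [orderOf_pow_of_dvd (pow_ne_zero _ two_ne_zero) (he ▸ Dvd.intro _ rfl), he,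
    Nat.mul_div_cancel_left _ (Nat.two_pow_pos k)]
  exact hm

variable {G : Type u} [Group G] [Finite G]

/-- Two-locals containing a Sylow `2`-subgroup have characteristic two. -/
theorem localCharP (hE : Cfsg.IsOfEvenCharacteristic G) (T : Sylow 2 G) :
    CfsgLib.FrakM.LocalCharP T := by
  intro R hR hR1 hT
  haveI : Fact (Nat.Prime 2) := ⟨Nat.prime_two⟩
  have hin := hE _ ⟨R, hR, hR1, rfl⟩ ⟨T, hT⟩
  have hRO : R ≤ Cfsg.pCoreOf 2 (normalizer (R : Set G)) :=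
    CfsgLib.FrakM.le_pCoreOf le_normalizer hR le_rfl
  refine ⟨fun h => hR1 (le_bot_iff.1 ((CfsgLib.FrakM.pCoreOf_eq_bot_iff _).2 h ▸ hRO)),
    fun x hx => ?_⟩
  have hxN : x ∈ normalizer (R : Set G) :=
    CfsgLib.FrakM.centralizer_le_normalizer R (centralizer_le hRO hx)
  exact ⟨⟨x, hxN⟩, hin (CfsgLib.CharP.mem_centralizer_of_subtype.2 hx), rfl⟩

/-- The data of a pair of overgroups. -/
structure Setting (T : Sylow 2 G) (M₀ H Kg R X₁ : Subgroup G) : Prop where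
  even : Cfsg.IsOfEvenCharacteristic G
  hTM : (T : Subgroup G) ≤ M₀
  hRT : R ≤ (T : Subgroup G)
  hRM : M₀ ≤ normalizer (R : Set G)
  hRX : R ≤ X₁
  sylow : ∃ S : Sylow 2 ↥X₁, (S : Subgroup ↥X₁) = R.subgroupOf X₁
  notK : ¬ X₁ ≤ Kg
  minX : ∀ Y : Subgroup G, R ≤ Y → Y ≤ X₁ → Y ≠ X₁ → Y ≤ Kg
  supT : X₁ ⊔ (T : Subgroup G) = H
  RK : R ≤ Kg
  notNormal : ¬ X₁ ≤ normalizer (R : Set G)
  charTwo : Cfsg.IsOfCharacteristicTwo ↥X₁
  omegaCore : ∀ s ∈ (T : Subgroup G), ∀ v w : G, v ∈ (Vo 2 ↥X₁).map X₁.subtype →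
    w ∈ (Vo 2 ↥X₁).map X₁.subtype → Commute v (s * w * s⁻¹)

namespace Setting

variable {T : Sylow 2 G} {M₀ H Kg R X₁ : Subgroup G} (C : Setting T M₀ H Kg R X₁)
include C

theorem exists_common (hR1 : R ≠ ⊥) :
    ∃ R₀ : Subgroup G, R₀ ≠ ⊥ ∧ R₀ ≤ R ∧ M₀ ⊔ H ≤ normalizer (R₀ : Set G) := by
  classical
  haveI : Fact (Nat.Prime 2) := ⟨Nat.prime_two⟩
  obtain ⟨S, hS⟩ := C.sylow
  have hmemS : ∀ x : ↥X₁, x ∈ (S : Subgroup ↥X₁) ↔ (x : G) ∈ R := fun x => by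
    rw [hS, mem_subgroupOf]
  have hconj : ∀ {m : G}, m ∈ M₀ → ∀ {r : G}, r ∈ R → m * r * m⁻¹ ∈ R := fun hm _ hr =>
    (mem_normalizer_iff.1 (C.hRM hm) _).1 hr
  let ρ : ↥M₀ →* MulAut ↥(S : Subgroup ↥X₁) :=
    { toFun := fun m =>
        { toFun := fun x => ⟨⟨(m : G) * ((x : ↥X₁) : G) * (m : G)⁻¹,
              C.hRX (hconj m.2 ((hmemS _).1 x.2))⟩, (hmemS _).2 (hconj m.2 ((hmemS _).1 x.2))⟩
          invFun := fun x => ⟨⟨(m : G)⁻¹ * ((x : ↥X₁) : G) * (m : G)⁻¹⁻¹,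
              C.hRX (hconj (inv_mem m.2) ((hmemS _).1 x.2))⟩,
              (hmemS _).2 (hconj (inv_mem m.2) ((hmemS _).1 x.2))⟩
          left_inv := fun x => Subtype.ext (Subtype.ext (by simp [mul_assoc]))
          right_inv := fun x => Subtype.ext (Subtype.ext (by simp [mul_assoc]))
          map_mul' := fun x y => Subtype.ext (Subtype.ext (by simp [mul_assoc])) }
      map_one' := MulEquiv.ext fun x => Subtype.ext (Subtype.ext (by simp))
      map_mul' := fun m n => MulEquiv.ext fun x =>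
        Subtype.ext (Subtype.ext (by simp [MulAut.mul_apply, mul_assoc])) }
  have hρ : ∀ (m : ↥M₀) (x : ↥(S : Subgroup ↥X₁)),
      (((ρ m x : ↥(S : Subgroup ↥X₁)) : ↥X₁) : G) = (m : G) * ((x : ↥X₁) : G) * (m : G)⁻¹ :=
    fun _ _ => rfl
  -- an invariant normal subgroup suffices
  have hfin : ∀ U : Subgroup ↥X₁, U ≠ ⊥ → U.Normal → U ≤ (S : Subgroup ↥X₁) →
      (∀ (m : ↥M₀) (x : ↥(S : Subgroup ↥X₁)), (x : ↥X₁) ∈ U →
        ((ρ m x : ↥(S : Subgroup ↥X₁)) : ↥X₁) ∈ U) →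
      ∃ R₀ : Subgroup G, R₀ ≠ ⊥ ∧ R₀ ≤ R ∧ M₀ ⊔ H ≤ normalizer (R₀ : Set G) := by
    intro U hU1 hUn hUS hinv
    refine ⟨U.map X₁.subtype, fun h => hU1 ((map_eq_bot_iff_of_injective _ X₁.subtype_injective).1 h),
      ?_, ?_⟩
    · rintro _ ⟨x, hx, rfl⟩
      exact (hmemS x).1 (hUS hx)
    · have hM : M₀ ≤ normalizer ((U.map X₁.subtype : Subgroup G) : Set G) := by
        intro m hm
        refine mem_normalizer_fintype ?_
        rintro _ ⟨x, hx, rfl⟩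
        exact ⟨_, hinv ⟨m, hm⟩ ⟨x, hUS hx⟩ hx, hρ ⟨m, hm⟩ ⟨x, hUS hx⟩⟩
      refine sup_le hM ?_
      rw [← C.supT]
      refine sup_le (fun g hg => mem_normalizer_fintype ?_) (C.hTM.trans hM)
      rintro _ ⟨x, hx, rfl⟩
      exact ⟨_, hUn.conj_mem x hx ⟨g, hg⟩, rfl⟩
  have hS1 : (S : Subgroup ↥X₁) ≠ ⊥ := by
    intro h
    refine hR1 ((eq_bot_iff).2 fun r hr => ?_)
    have h1 : (⟨r, C.hRX hr⟩ : ↥X₁) ∈ (⊥ : Subgroup ↥X₁) := h ▸ (hmemS _).2 hr
    exact mem_bot.2 (congrArg Subtype.val (mem_bot.1 h1))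
  have hchar : ∀ U : Subgroup ↥X₁, (U.subgroupOf (S : Subgroup ↥X₁)).Characteristic →
      ∀ (m : ↥M₀) (x : ↥(S : Subgroup ↥X₁)), (x : ↥X₁) ∈ U →
        ((ρ m x : ↥(S : Subgroup ↥X₁)) : ↥X₁) ∈ U := fun U hU m x hx =>
    mem_comap.1 ((characteristic_iff_comap_eq.1 hU (ρ m)).ge (mem_subgroupOf.2 hx))
  by_cases hz : (Cfsg.omegaOneCenter 2 (S : Subgroup ↥X₁)).Normal
  · exact hfin _ (CfsgLib.CTheorem.omegaOneCenter_ne_bot S.2 hS1) hz
      (fun x hx => (mem_omegaOneCenter hx).1) (hchar _ (CfsgLib.CTheorem.omegaOneCenter_char _))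
  by_cases hc : ∃ U : Subgroup ↥X₁, U ≤ Cfsg.baumannSubgroupOf 2 (S : Subgroup ↥X₁) ∧ U ≠ ⊥ ∧
      (U.subgroupOf (Cfsg.baumannSubgroupOf 2 (S : Subgroup ↥X₁))).Characteristic ∧ U.Normal
  · obtain ⟨U, hUB, hU1, hUc, hUn⟩ := hc
    exact hfin U hU1 hUn (hUB.trans inf_le_left)
      (hchar _ (CfsgLib.CTheorem.characteristic_of_baumann hUB hUc))
  -- the minimal parabolic
  have hnS : ¬ (S : Subgroup ↥X₁).Normal := by
    intro h
    rw [hS] at h
    exact C.notNormal ((normal_subgroupOf_iff_le_normalizer C.hRX).1 h)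
  set K₁ := Kg.subgroupOf X₁ with hK₁
  have hK₁top : K₁ ≠ ⊤ := fun h => C.notK (subgroupOf_eq_top.1 h)
  have hover : ∀ Y : Subgroup ↥X₁, (S : Subgroup ↥X₁) ≤ Y → Y ≠ ⊤ → Y ≤ K₁ := by
    intro Y hSY hY y hy
    refine mem_subgroupOf.2 (C.minX (Y.map X₁.subtype) (fun r hr => ?_) (map_subtype_le _)
      (fun h => hY ?_) (mem_map_of_mem _ hy))
    · exact ⟨⟨r, C.hRX hr⟩, hSY ((hmemS _).2 hr), rfl⟩
    · refine eq_top_iff.2 fun x _ => ?_
      obtain ⟨y, hy, he⟩ := h.ge x.2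
      exact (Subtype.ext he : y = x) ▸ hy
  have hSK : (S : Subgroup ↥X₁) ≤ K₁ := fun x hx => mem_subgroupOf.2 (C.RK ((hmemS x).1 hx))
  have huniq : ∃! M : Subgroup ↥X₁, IsCoatom M ∧ (S : Subgroup ↥X₁) ≤ M := by
    refine ⟨K₁, ⟨⟨hK₁top, fun Y hY => ?_⟩, hSK⟩, fun M hM => ?_⟩
    · by_contra h
      exact not_le_of_gt hY (hover Y (hSK.trans hY.le) h)
    · refine le_antisymm (hover M hM.2 hM.1.1) ?_
      by_contra h
      exact hK₁top (hM.1.2 K₁ (lt_of_le_not_ge (hover M hM.2 hM.1.1) h))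
  obtain ⟨M, P, iP, iPf, π, W, iW, iWf, iA, e, T', 𝓔, D⟩ :=
    CfsgLib.PushUpB.exists_pu (CfsgLib.Isolated.isPMinimal_of_one S hnS huniq) C.charTwo S
      (fun U h1 h2 h3 h4 => hc ⟨U, h1, h2, h3, h4⟩) hz
  by_cases hall : ∀ m : ↥M₀, ¬ AdjA ρ 1 m
  · obtain ⟨U, hU1, hUn, hUS, hUi⟩ := CommonNormal.exists_invariant D ρ hall
    exact hfin U hU1 hUn hUS hUi
  exfalso
  push Not at hall
  obtain ⟨a, ha⟩ := hall
  let T₀ : Sylow 2 ↥M₀ := T.subtype C.hTM
  obtain ⟨S₁, f, hf, h, hfadj, hsep⟩ := exists_flip D ρ T₀ (fun s hs hadj => by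
    obtain ⟨v, hv, w, hw, hne⟩ := hadj
    rw [map_one] at hne
    refine hne (Subtype.ext (Subtype.ext ?_))
    exact (C.omegaCore (s : G) (mem_subgroupOf.1 hs) ((v : ↥X₁) : G) ((w : ↥X₁) : G)
      (mem_map_of_mem _ (mem_subgroupOf.1 hv)) (mem_map_of_mem _ (mem_subgroupOf.1 hw))).eq) ha
  set Sg := (S₁ : Subgroup ↥M₀).map M₀.subtype with hSg
  have hSgM : Sg ≤ M₀ := map_subtype_le _
  have hRSg : R ≤ Sg := by
    intro r hr
    haveI : (R.subgroupOf M₀).Normal :=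
      normal_subgroupOf_of_le_normalizer C.hRM
    have hp : IsPGroup 2 ↥(R.subgroupOf M₀) :=
      (T.isPGroup'.to_le C.hRT).comap_of_injective M₀.subtype M₀.subtype_injective
    have hle : R.subgroupOf M₀ ≤ (S₁ : Subgroup ↥M₀) :=
      (CfsgLib.Solvable.le_pCore 2 inferInstance hp).trans (CfsgLib.Fitting.pCore_le_sylow S₁)
    exact ⟨⟨r, C.hTM (C.hRT hr)⟩, hle hr, rfl⟩
  obtain ⟨Ts, hTs⟩ : ∃ Ts : Sylow 2 G, (Ts : Subgroup G) = Sg := by
    have hcard : Nat.card Sg = Nat.card (T : Subgroup G) := by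
      rw [hSg, card_map_of_injective M₀.subtype_injective, S₁.card_eq_multiplicity,
        ← T₀.card_eq_multiplicity]
      exact Nat.card_congr (subgroupOfEquivOfLe C.hTM).toEquiv
    exact ⟨Sylow.ofCard Sg (hcard.trans T.card_eq_multiplicity), rfl⟩
  -- the elements of `R` centralized by all elements of odd order in all conjugates
  let Dc : Subgroup G :=
    { carrier := {r | r ∈ R ∧ ∀ s ∈ Sg, ∀ g ∈ X₁, Odd (orderOf g) → Commute g (s⁻¹ * r * s)}
      one_mem' := ⟨one_mem R, fun s _ g _ _ => by simp⟩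
      mul_mem' := fun {a b} ha hb => ⟨mul_mem ha.1 hb.1, fun s hs g hg ho => by
        rw [show s⁻¹ * (a * b) * s = (s⁻¹ * a * s) * (s⁻¹ * b * s) by group]
        exact (ha.2 s hs g hg ho).mul_right (hb.2 s hs g hg ho)⟩
      inv_mem' := fun {a} ha => ⟨inv_mem ha.1, fun s hs g hg ho => by
        rw [show s⁻¹ * a⁻¹ * s = (s⁻¹ * a * s)⁻¹ by group]
        exact (ha.2 s hs g hg ho).inv_right⟩ }
  have hSD : Sg ≤ normalizer (Dc : Set G) := by
    intro t ht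
    refine mem_normalizer_fintype ?_
    rintro r ⟨hr, hr'⟩
    refine ⟨hconj (hSgM ht) hr, fun s hs g hg ho => ?_⟩
    rw [show s⁻¹ * (t * r * t⁻¹) * s = (t⁻¹ * s)⁻¹ * r * (t⁻¹ * s) by group]
    exact hr' _ (mul_mem (inv_mem ht) hs) g hg ho
  have hDne : Dc ≠ ⊥ := by
    obtain ⟨v, hv, w, hw, hne⟩ := adj_mul D ρ h hfadj
    rw [mul_one] at hne
    set c : ↥(S : Subgroup ↥X₁) := ρ h v * ρ (h * f) w * (ρ h v)⁻¹ * (ρ (h * f) w)⁻¹ with hc
    intro hbot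
    refine hne ?_
    have hcD : ((c : ↥X₁) : G) ∈ Dc := by
      refine ⟨(hmemS _).1 c.2, fun s hs g hg ho => ?_⟩
      obtain ⟨s₀, hs₀, rfl⟩ := hs
      have h1 : ¬ AdjV (S) 1 (ρ (s₀⁻¹ * h)) := fun hh => (hsep s₀ hs₀).1
        ((adj_one_iff D ρ).2 (by rw [AdjA, map_one]; exact hh))
      have h2 : ¬ AdjV (S) 1 (ρ (s₀⁻¹ * (h * f))) := fun hh => (hsep s₀ hs₀).2
        ((adj_one_iff D ρ).2 (by rw [AdjA, map_one]; exact hh))
      have h3 := commute_commutator D h1 h2 hv hw (g := ⟨g, hg⟩)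
        (by rwa [← Subgroup.orderOf_coe])
      have h4 : ρ s₀⁻¹ c = ρ (s₀⁻¹ * h) v * ρ (s₀⁻¹ * (h * f)) w * (ρ (s₀⁻¹ * h) v)⁻¹ *
          (ρ (s₀⁻¹ * (h * f)) w)⁻¹ := by
        simp only [hc, map_mul, map_inv, MulAut.mul_apply]
      rw [← h4] at h3
      have h5 := h3.map X₁.subtype
      simp only [coe_subtype] at h5
      rw [hρ, Subgroup.coe_inv, inv_inv] at h5
      exact h5
    rw [hbot, mem_bot] at hcD
    have hc1 : c = 1 := Subtype.ext (Subtype.ext hcD)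
    have h6 : ρ h v * ρ (h * f) w = ρ (h * f) w * ρ h v := by
      rw [hc] at hc1
      exact commutatorElement_eq_one_iff_mul_comm.1 hc1
    exact h6
  set N := normalizer (Dc : Set G) with hN
  have hDp : IsPGroup 2 ↥Dc := T.isPGroup'.to_le fun r hr => C.hRT hr.1
  have hNP : N ∈ Cfsg.charPSubgroups 2 G :=
    localCharP C.even Ts Dc hDp hDne (hTs ▸ hSD)
  set Qn := Cfsg.pCoreOf 2 N with hQn
  have hQnS : Qn ≤ Sg := hTs ▸ CfsgLib.CharP.pCoreOf_le_sylow Ts (hTs ▸ hSD)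
  have hX₁N : X₁ ≤ N := by
    set O := Subgroup.closure {x : ↥X₁ | Odd (orderOf x)} with hO
    haveI : O.Normal := by
      refine ⟨fun x hx z => ?_⟩
      have h1 : O.map (MulAut.conj z).toMonoidHom ≤ O := by
        rw [hO, MonoidHom.map_closure, closure_le]
        rintro _ ⟨y, hy, rfl⟩
        refine subset_closure ?_
        show Odd (orderOf (MulAut.conj z y))
        rw [MulEquiv.orderOf_eq]
        exact hy
      exact h1 (mem_map_of_mem _ hx)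
    have h1 := sup_sylow_eq_top O (fun x hx => subset_closure hx) S
    have h2 : O ⊔ (S : Subgroup ↥X₁) ≤ N.subgroupOf X₁ := by
      refine sup_le ((closure_le _).2 fun x hx => ?_) fun x hx => ?_
      · refine mem_subgroupOf.2 (mem_normalizer_fintype ?_)
        rintro r ⟨hr, hr'⟩
        have h3 : Commute (x : G) r := by
          simpa using hr' 1 (one_mem Sg) (x : G) x.2 (by rwa [Subgroup.orderOf_coe])
        rw [h3.eq, mul_inv_cancel_right]
        exact ⟨hr, hr'⟩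
      · exact mem_subgroupOf.2 (hSD (hRSg ((hmemS x).1 hx)))
    rw [h1] at h2
    exact fun x hx => h2 (mem_top (⟨x, hx⟩ : ↥X₁))
  have hQnN : N ≤ normalizer (Qn : Set G) := CfsgLib.FrakM.le_normalizer_pCoreOf N
  have hQn2 : IsPGroup 2 ↥Qn := CfsgLib.FrakM.isPGroup_pCoreOf N
  set Y := Qn.subgroupOf X₁ with hY
  haveI hYn : Y.Normal := normal_subgroupOf_of_le_normalizer (hX₁N.trans hQnN)
  have hY2 : IsPGroup 2 ↥Y := hQn2.comap_of_injective X₁.subtype X₁.subtype_injective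
  have hYS : Y ≤ (S : Subgroup ↥X₁) :=
    (CfsgLib.Solvable.le_pCore 2 hYn hY2).trans (CfsgLib.Fitting.pCore_le_sylow S)
  have hYcomm : ∀ {g : ↥X₁}, Odd (orderOf g) → ∀ {k : ↥X₁}, k ∈ Y → Commute g k := by
    intro g hg k hk
    refine commute_normal D hY2 (a := ρ f) ?_ (fun y hy => ?_) hg hk
    · have := hfadj
      rwa [AdjA, map_one] at this
    · have h1 : (f : G)⁻¹ ∈ normalizer (Qn : Set G) :=
        inv_mem (hQnN (hSD (mem_map_of_mem _ hf)))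
      have h2 := (mem_normalizer_iff.1 h1 _).1 (mem_subgroupOf.1 hy)
      exact mem_subgroupOf.2 h2
  -- the elements of `X₁` centralizing `Qn` modulo `Y`
  let L : Subgroup ↥X₁ :=
    { carrier := {x | ∀ k ∈ Qn, (x : G) * k * (x : G)⁻¹ * k⁻¹ ∈ Qn ⊓ X₁}
      one_mem' := fun k _ => by simp
      mul_mem' := fun {x y} hx hy k hk => by
        have h1 : (x : G) * ((y : G) * k * (y : G)⁻¹ * k⁻¹) * (x : G)⁻¹ ∈ Qn ⊓ X₁ :=
          ⟨(mem_normalizer_iff.1 (hQnN (hX₁N x.2)) _).1 (hy k hk).1,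
            X₁.mul_mem (X₁.mul_mem x.2 (hy k hk).2) (X₁.inv_mem x.2)⟩
        have := mul_mem h1 (hx k hk)
        simpa [mul_assoc] using this
      inv_mem' := fun {x} hx k hk => by
        have h1 := inv_mem (hx k hk)
        have h2 : (x : G)⁻¹ * ((x : G) * k * (x : G)⁻¹ * k⁻¹)⁻¹ * (x : G)⁻¹⁻¹ ∈ Qn ⊓ X₁ :=
          ⟨(mem_normalizer_iff.1 (hQnN (hX₁N (inv_mem x.2))) _).1 h1.1,
            X₁.mul_mem (X₁.mul_mem (X₁.inv_mem x.2) h1.2) (X₁.inv_mem (X₁.inv_mem x.2))⟩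
        simpa [mul_assoc] using h2 }
  have hLtop : L = ⊤ := by
    haveI hLn : L.Normal := ⟨fun x hx z k hk => by
      have hk' : (z : G)⁻¹ * k * (z : G) ∈ Qn := by
        simpa using (mem_normalizer_iff.1 (hQnN (hX₁N (inv_mem z.2))) k).1 hk
      have h1 := hx _ hk'
      have h2 : (z : G) * ((x : G) * ((z : G)⁻¹ * k * (z : G)) * (x : G)⁻¹ *
          ((z : G)⁻¹ * k * (z : G))⁻¹) * (z : G)⁻¹ ∈ Qn ⊓ X₁ :=
        ⟨(mem_normalizer_iff.1 (hQnN (hX₁N z.2)) _).1 h1.1,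
          X₁.mul_mem (X₁.mul_mem z.2 h1.2) (X₁.inv_mem z.2)⟩
      simpa [mul_assoc] using h2⟩
    have hSL : (S : Subgroup ↥X₁) ≤ L := by
      intro x hx k hk
      have hxR := (hmemS x).1 hx
      have h1 : (x : G) * k * (x : G)⁻¹ * k⁻¹ ∈ R := by
        rw [show (x : G) * k * (x : G)⁻¹ * k⁻¹ = (x : G) * (k * (x : G)⁻¹ * k⁻¹) by group]
        exact mul_mem hxR (hconj (hSgM (hQnS hk)) (inv_mem hxR))
      exact mem_inf.2 ⟨mul_mem ((mem_normalizer_iff.1 (hQnN (hX₁N x.2)) _).1 hk) (inv_mem hk), C.hRX h1⟩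
    by_contra hL
    refine hK₁top (top_le_iff.1 ?_)
    rw [← (S.subtype hSL).normalizer_sup_eq_top]
    refine sup_le ?_ (hover L hSL hL)
    rw [Sylow.coe_subtype, map_subgroupOf_eq_of_le hSL]
    exact hover _ le_normalizer fun h => hnS (normalizer_eq_top_iff.1 h)
  -- the elements of odd order are trivial
  refine hnS ?_
  have hodd : ∀ x : ↥X₁, Odd (orderOf x) → x ∈ (⊥ : Subgroup ↥X₁) := by
    intro x hx
    have hxo : Odd (orderOf (x : G)) := by rwa [Subgroup.orderOf_coe]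
    have hxQ : (x : G) ∈ Qn := by
      refine hNP.2 (mem_centralizer_iff.2 fun k hk => ?_)
      have hmem := (hLtop.ge (mem_top x)) k hk
      obtain ⟨m, hm⟩ := hQn2 ⟨_, hmem.1⟩
      refine (commute_of_chain hxo ?_ (congrArg Subtype.val hm)).eq.symm
      exact (hYcomm hx (k := ⟨_, hmem.2⟩) (mem_subgroupOf.2 hmem.1)).map X₁.subtype
    exact mem_bot.2 (Subtype.ext (eq_one_of_odd hQn2 hxQ hxo))
  have := sup_sylow_eq_top (⊥ : Subgroup ↥X₁) hodd S
  rw [bot_sup_eq] at this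
  rw [this]
  infer_instance

end Setting

/-- A common normal subgroup of `M₀` and `H`. -/
theorem exists_common (hE : Cfsg.IsOfEvenCharacteristic G) (T : Sylow 2 G) (M₀ H : Subgroup G)
    (hTM : (T : Subgroup G) ≤ M₀) (hHO : Cfsg.pCore 2 ↥H ≠ ⊥) (hTH : (T : Subgroup G) ≤ H)
    (hU : ∃! K : Subgroup ↥H, IsCoatom K ∧ (T : Subgroup G).subgroupOf H ≤ K)
    (R : Subgroup G) (hR : R ≠ ⊥) (hRT : R ≤ (T : Subgroup G))
    (hRS : ∃ P : Sylow 2 ↥(Cfsg.oddGenerated H ⊔ R),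
      (P : Subgroup ↥(Cfsg.oddGenerated H ⊔ R)) = R.subgroupOf (Cfsg.oddGenerated H ⊔ R))
    (hRM : M₀ ≤ normalizer (R : Set G)) :
    ∃ R₀ : Subgroup G, R₀ ≠ ⊥ ∧ R₀ ≤ R ∧ M₀ ⊔ H ≤ normalizer (R₀ : Set G) := by
  classical
  haveI : Fact (Nat.Prime 2) := ⟨Nat.prime_two⟩
  by_cases hHR : H ≤ normalizer (R : Set G)
  · exact ⟨R, hR, le_rfl, sup_le hRM hHR⟩
  obtain ⟨K, ⟨hK, hTK⟩, hKu⟩ := hU
  set Kg := K.map H.subtype with hKg
  have hover : ∀ Y : Subgroup G, (T : Subgroup G) ≤ Y → Y ≤ H → Y ≠ H → Y ≤ Kg := by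
    intro Y hTY hYH hne
    have hne' : Y.subgroupOf H ≠ ⊤ := fun h => hne (le_antisymm hYH (subgroupOf_eq_top.1 h))
    obtain ⟨K', hK', hle⟩ := (eq_top_or_exists_le_coatom (Y.subgroupOf H)).resolve_left hne'
    have := hKu K' ⟨hK', le_trans (fun x hx => mem_subgroupOf.2 (hTY hx)) hle⟩
    subst this
    intro y hy
    exact ⟨⟨y, hYH hy⟩, hle (mem_subgroupOf.2 hy), rfl⟩
  have hKgH : ¬ H ≤ Kg := fun h => hK.1 (eq_top_iff.2 fun x _ => by
    obtain ⟨k, hk, he⟩ := h x.2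
    exact (Subtype.ext he : k = x) ▸ hk)
  have hTKg : (T : Subgroup G) ≤ Kg := fun t ht => ⟨⟨t, hTH ht⟩, hTK ht, rfl⟩
  set O := Cfsg.oddGenerated H with hO
  have hOH : O ≤ H := (closure_le _).2 fun x hx => hx.1
  have hHO' : H ≤ normalizer (O : Set G) := by
    intro h hh
    refine mem_normalizer_fintype fun x hx => ?_
    have h1 : O.map (MulAut.conj h).toMonoidHom ≤ O := by
      rw [hO, Cfsg.oddGenerated, MonoidHom.map_closure, closure_le]
      rintro _ ⟨y, ⟨hy, hyo⟩, rfl⟩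
      refine subset_closure ⟨mul_mem (mul_mem hh hy) (inv_mem hh), ?_⟩
      rw [show (MulAut.conj h).toMonoidHom y = MulAut.conj h y from rfl, MulEquiv.orderOf_eq]
      exact hyo
    exact h1 (mem_map_of_mem _ hx)
  have hOT : O ⊔ (T : Subgroup G) = H := by
    refine le_antisymm (sup_le hOH hTH) ?_
    haveI : (O.subgroupOf H).Normal := normal_subgroupOf_of_le_normalizer hHO'
    have h1 := sup_sylow_eq_top (O.subgroupOf H) (fun x hx => mem_subgroupOf.2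
      (subset_closure ⟨x.2, by rwa [Subgroup.orderOf_coe]⟩)) (T.subtype hTH)
    rw [Sylow.coe_subtype, ← subgroupOf_sup hOH hTH, subgroupOf_eq_top] at h1
    exact h1
  set X := O ⊔ R with hX
  have hXH : X ≤ H := sup_le hOH (hRT.trans hTH)
  have hHX : H ≤ normalizer (X : Set G) := by
    rw [← hOT]
    refine sup_le (le_sup_left.trans le_normalizer) fun t ht => mem_normalizer_fintype fun x hx => ?_
    have h1 : X.map (MulAut.conj t).toMonoidHom ≤ X := by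
      rw [hX, Subgroup.map_sup]
      refine sup_le_sup ?_ ?_
      · rintro _ ⟨y, hy, rfl⟩
        exact (mem_normalizer_iff.1 (hHO' (hTH ht)) y).1 hy
      · rintro _ ⟨y, hy, rfl⟩
        exact (mem_normalizer_iff.1 (hRM (hTM ht)) y).1 hy
    exact h1 (mem_map_of_mem _ hx)
  have hXK : ¬ X ≤ Kg := fun h => hKgH (hOT ▸ sup_le ((le_sup_left.trans h)) hTKg)
  obtain ⟨X₁, ⟨⟨hRX₁, hX₁X, hX₁K⟩, hmin⟩⟩ :=
    exists_minimal_of_wellFoundedLT (fun Y : Subgroup G => R ≤ Y ∧ Y ≤ X ∧ ¬ Y ≤ Kg)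
      ⟨X, le_sup_right, le_rfl, hXK⟩
  have hsup : X₁ ⊔ (T : Subgroup G) = H := by
    by_contra h
    exact hX₁K (le_sup_left.trans (hover _ le_sup_right (sup_le (hX₁X.trans hXH) hTH) h))
  -- characteristic two
  have hHP : H ∈ Cfsg.charPSubgroups 2 G :=
    CfsgLib.FrakM.charP_of_le T hTH (CfsgLib.FrakM.le_normalizer_pCoreOf H)
      (localCharP hE T _ (CfsgLib.FrakM.isPGroup_pCoreOf H)
        (fun h => hHO ((CfsgLib.FrakM.pCoreOf_eq_bot_iff _).1 h))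
        (hTH.trans (CfsgLib.FrakM.le_normalizer_pCoreOf H)))
  set QH := Cfsg.pCoreOf 2 H with hQH
  set QX := Cfsg.pCoreOf 2 X with hQX
  have hQXX : X ≤ normalizer (QX : Set G) := CfsgLib.FrakM.le_normalizer_pCoreOf X
  have hHQX : H ≤ normalizer (QX : Set G) :=
    hHX.trans (CfsgLib.FrakM.normalizer_le_normalizer_pCoreOf X)
  have hXQH : X ⊓ QH ≤ QX :=
    CfsgLib.FrakM.le_pCoreOf inf_le_left ((CfsgLib.FrakM.isPGroup_pCoreOf H).to_le inf_le_right)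
      fun x hx => mem_normalizer_fintype fun y hy =>
        ⟨X.mul_mem (X.mul_mem hx hy.1) (X.inv_mem hx),
          (mem_normalizer_iff.1 (CfsgLib.FrakM.le_normalizer_pCoreOf H (hXH hx)) y).1 hy.2⟩
  have hCX : X ⊓ centralizer (QX : Set G) ≤ QX := by
    refine CfsgLib.FrakM.le_pCoreOf inf_le_left (isPGroup_two_of_odd fun d hd ho => ?_) ?_
    · have hdQ : d ∈ QH := by
        refine hHP.2 (mem_centralizer_iff.2 fun q hq => ?_)
        have hq' : d * q * d⁻¹ * q⁻¹ ∈ X ⊓ QH := by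
          refine mem_inf.2 ⟨?_, mul_mem ((mem_normalizer_iff.1
            (CfsgLib.FrakM.le_normalizer_pCoreOf H (hXH hd.1)) q).1 hq) (inv_mem hq)⟩
          rw [show d * q * d⁻¹ * q⁻¹ = d * (q * d⁻¹ * q⁻¹) by group]
          exact mul_mem hd.1 ((mem_normalizer_iff.1 (hHX (map_subtype_le _ hq)) _).1 (inv_mem hd.1))
        obtain ⟨m, hm⟩ := (CfsgLib.FrakM.isPGroup_pCoreOf (p := 2) X) ⟨_, hXQH hq'⟩
        exact (commute_of_chain ho (mem_centralizer_iff.1 hd.2 _ (hXQH hq')).symm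
          (congrArg Subtype.val hm)).eq.symm
      exact eq_one_of_odd (CfsgLib.FrakM.isPGroup_pCoreOf H) hdQ ho
    · exact fun x hx => mem_normalizer_fintype fun y hy =>
        ⟨X.mul_mem (X.mul_mem hx hy.1) (X.inv_mem hx),
          CfsgLib.FrakM.conj_mem_centralizer (hQXX hx) hy.2⟩
  obtain ⟨P, hP⟩ := hRS
  have hQXR : QX ≤ R := by
    rintro _ ⟨x, hx, rfl⟩
    have h1 : x ∈ R.subgroupOf X := hP ▸ CfsgLib.Fitting.pCore_le_sylow P hx
    exact h1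
  have hQX₁ : QX ≤ Cfsg.pCoreOf 2 X₁ :=
    CfsgLib.FrakM.le_pCoreOf (hQXR.trans hRX₁) (CfsgLib.FrakM.isPGroup_pCoreOf X)
      (hX₁X.trans hQXX)
  have hchar2 : Cfsg.IsOfCharacteristicTwo ↥X₁ := by
    intro x hx
    have h1 : (x : G) ∈ QX := hCX ⟨hX₁X x.2,
      centralizer_le hQX₁ (CfsgLib.CharP.mem_centralizer_of_subtype.1 hx)⟩
    obtain ⟨y, hy, he⟩ := hQX₁ h1
    exact (Subtype.ext he : y = x) ▸ hy
  have hVQ : ∀ v ∈ (Vo 2 ↥X₁).map X₁.subtype, v ∈ QX ∧ ∀ q ∈ QX, Commute q v := by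
    rintro _ ⟨v, hv, rfl⟩
    have h1 : ∀ q ∈ QX, Commute q (v : G) := by
      intro q hq
      obtain ⟨q', hq', rfl⟩ := hQX₁ hq
      exact congrArg Subtype.val ((mem_omegaOneCenter hv).2.1 q' hq')
    exact ⟨hCX ⟨hX₁X v.2, mem_centralizer_iff.2 fun q hq => (h1 q hq).eq⟩, h1⟩
  refine Setting.exists_common (T := T) (Kg := Kg) (X₁ := X₁)
    ⟨hE, hTM, hRT, hRM, hRX₁, ?_, hX₁K, fun Y hRY hY hne => ?_, hsup, hRT.trans hTKg,
      fun h => hHR ?_, hchar2, fun s hs v w hv hw => ?_⟩ hR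
  · have hp : IsPGroup 2 ↥(R.subgroupOf X₁) :=
      (T.isPGroup'.to_le hRT).comap_of_injective X₁.subtype X₁.subtype_injective
    refine ⟨hp.toSylow ?_, rfl⟩
    intro h2
    refine P.not_dvd_index ?_
    rw [hP]
    refine h2.trans ?_
    show R.relIndex X₁ ∣ R.relIndex X
    rw [← relIndex_mul_relIndex R X₁ X hRX₁ hX₁X]
    exact dvd_mul_right _ _
  · by_contra hYK
    exact hne (le_antisymm hY (hmin ⟨hRY, hY.trans hX₁X, hYK⟩ hY))
  · rw [← hsup]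
    exact sup_le h (hTM.trans hRM)
  · exact ((hVQ v hv).2 _ ((mem_normalizer_iff.1 (hHQX (hTH hs)) w).1 (hVQ w hw).1)).symm

end CfsgLib.CommonNormal
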